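import Mathlib
import Cfsg.Agent.PLocal.AmbSyl
import Cfsg.Agent.Proj.Fam
import Cfsg.Agent.TwoTr.Reg

/-! Vocabulary for Hiramine's theorem (S2208): a doubly transitive group whose point stabilizer
has a normal subgroup `L₂(q)`, `Sz(q)` or `U₃(q)`, `q` even. -/

set_option autoImplicit false
set_option linter.unusedSectionVars false

namespace Cfsg.Agent.Hir

open Subgroup MulAction Cfsg.Agent.PLocal Cfsg.Agent.PLocal.Amb

section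
variable {G : Type*} [Group G]

/-- `Ω₁(Z(T))` -/
def om (T : Subgroup G) : Subgroup G where
  carrier := {x | x ∈ T ∧ x * x = 1 ∧ ∀ y ∈ T, x * y = y * x}
  one_mem' := ⟨one_mem _, by simp, by simp⟩
  mul_mem' := fun {a b} ha hb => ⟨mul_mem ha.1 hb.1, by
    rw [mul_assoc, ← mul_assoc b, hb.2.2 a ha.1, mul_assoc, hb.2.1, mul_one, ha.2.1], fun y hy => by
    rw [mul_assoc, hb.2.2 y hy, ← mul_assoc, ha.2.2 y hy, mul_assoc]⟩
  inv_mem' := fun {a} ha => by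
    have : a⁻¹ = a := inv_eq_of_mul_eq_one_right ha.2.1
    rwa [this]

theorem mem_om {T : Subgroup G} {x : G} :
    x ∈ om T ↔ x ∈ T ∧ x * x = 1 ∧ ∀ y ∈ T, x * y = y * x := Iff.rfl

theorem om_le (T : Subgroup G) : om T ≤ T := fun _ h => h.1

theorem cj_om (g : G) (T : Subgroup G) : cj(g, om T) = om cj(g, T) := by
  ext x
  simp only [mem_cj, mem_om]
  refine and_congr_right fun _ => and_congr ?_ ⟨fun h y hy => ?_, fun h y hy => ?_⟩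
  · rw [show g⁻¹ * x * g * (g⁻¹ * x * g) = g⁻¹ * (x * x) * g⁻¹⁻¹ by group, conj_eq_one_iff]
  · have := h _ hy
    calc x * y = g * (g⁻¹ * x * g * (g⁻¹ * y * g)) * g⁻¹ := by group
      _ = y * x := by rw [this]; group
  · have := h (g * y * g⁻¹) (by simpa [mul_assoc] using hy)
    calc g⁻¹ * x * g * y = g⁻¹ * (x * (g * y * g⁻¹)) * g := by group
      _ = y * (g⁻¹ * x * g) := by rw [this]; group

theorem norm_le_norm_om (T : Subgroup G) : 𝐍[T] ≤ 𝐍[om T] := fun g hg =>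
  cj_eq_iff.1 (by rw [cj_om, cj_eq_iff.2 hg])

/-- the involutions of `N` interchanging `T` and `U` -/
def Sw (N T U : Subgroup G) : Set G := {u | u ∈ N ∧ u * u = 1 ∧ cj(u, T) = U}

/-- the split torus determined by two Sylow 2-subgroups -/
def tor (N T U : Subgroup G) : Subgroup G :=
  closure {k | ∃ u ∈ Sw N T U, ∃ v ∈ Sw N T U, k = u * v}

/-- Facts on a simple Bender group `N`, seen inside an ambient group.
`V = om T`, `q = |V|`. -/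
structure BM (N : Subgroup G) : Prop where
  simple : ∀ K ≤ N, N ≤ 𝐍[K] → K = ⊥ ∨ K = N
  nonab : ∃ x ∈ N, ∃ y ∈ N, x * y ≠ y * x
  cls : ∀ s ∈ N, ∀ t ∈ N, s ≠ 1 → t ≠ 1 → s * s = 1 → t * t = 1 → ∃ g ∈ N, g * s * g⁻¹ = t
  ti : ∀ {T U}, IsSyl 2 T N → IsSyl 2 U N → ∀ x ∈ T, x ∈ U → x ≠ 1 → T = U
  cen : ∀ {T}, IsSyl 2 T N → ∀ s ∈ T, s * s = 1 → s ∈ om T
  sq : ∀ {T}, IsSyl 2 T N → ∀ x ∈ T, x * x ∈ om T
  four : ∀ {T}, IsSyl 2 T N → 4 ≤ Nat.card (om T)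
  reg : ∀ {T U W}, IsSyl 2 T N → IsSyl 2 U N → IsSyl 2 W N → U ≠ T → W ≠ T →
    ∃ x ∈ T, cj(x, U) = W
  creg : ∀ {T}, IsSyl 2 T N → ∀ s ∈ om T, s ≠ 1 → ∀ g ∈ N, g * s = s * g → g ∈ 𝐂[om T]
  inner : ∀ {T}, IsSyl 2 T N → ∀ g ∈ 𝐍[N], g ∈ 𝐂[om T] →
    (∀ y ∈ T, y⁻¹ * (g * y * g⁻¹) ∈ om T) → ∃ x ∈ T, x⁻¹ * g ∈ 𝐂[N]
  irr : ∀ {T}, IsSyl 2 T N → ∀ B, om T ≤ B → B ≤ T → N ⊓ 𝐍[T] ≤ 𝐍[B] → B = om T ∨ B = T
  tor_card : ∀ {T U}, IsSyl 2 T N → IsSyl 2 U N → T ≠ U →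
    Nat.card (tor N T U) + 1 = Nat.card (om T)
  tor_comm : ∀ {T U}, IsSyl 2 T N → IsSyl 2 U N → T ≠ U →
    ∀ k ∈ tor N T U, ∀ l ∈ tor N T U, k * l = l * k
  tor_fpf : ∀ {T U}, IsSyl 2 T N → IsSyl 2 U N → T ≠ U →
    ∀ k ∈ tor N T U, ∀ x ∈ T, k * x = x * k → k = 1 ∨ x = 1
  card : ∀ {T}, IsSyl 2 T N → T = om T ∨
    (Nat.card T = Nat.card (om T) ^ 2 ∧ 8 ≤ Nat.card (om T) ∧ ∃ x ∈ T, ∃ y ∈ T, x * y ≠ y * x) ∨
    Nat.card T = Nat.card (om T) ^ 3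
  sq2 : ∀ {T}, IsSyl 2 T N → ∀ y ∈ T, ∀ l ∈ T, ∀ m ∈ T, l ∉ om T → m ∉ om T → l * m = m * l →
    y * l * y⁻¹ = l⁻¹ → y * m * y⁻¹ = m⁻¹ → l * m ∈ om T
  noq8 : ∀ {T}, IsSyl 2 T N → Nat.card (om T) = 4 → ∀ x ∈ T, ∀ y ∈ T, y * y = x * x →
    x * y * (x * y) = x * x → x * x = 1
  a5 : ∀ {T}, IsSyl 2 T N → Nat.card T = 4 → Nat.card N = 60 ∧
    ∃ (F : Type) (_ : Field F) (_ : Fintype F), Fintype.card F = 4 ∧
      Nonempty (N ≃* Matrix.ProjectiveSpecialLinearGroup (Fin 2) F)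

/-- the 2-subgroups of `Out N` are cyclic -/
def OutCyc (N : Subgroup G) : Prop :=
  ∀ S : Subgroup G, IsPGroup 2 S → S ≤ 𝐍[N] → ∀ x ∈ S, ∀ y ∈ S,
    x⁻¹ * y⁻¹ * x * y ∈ N ⊔ 𝐂[N] ∧
    (x * x ∈ N ⊔ 𝐂[N] → y * y ∈ N ⊔ 𝐂[N] → x ∈ N ⊔ 𝐂[N] ∨ y ∈ N ⊔ 𝐂[N] ∨ x * y ∈ N ⊔ 𝐂[N])

end

/-- The setting: the family `N a` of conjugates of `N`, the socle `M`. -/
structure Ctx (G X : Type*) [Group G] [MulAction G X] extends Proj.Fam G X where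
  M : Subgroup G
  bm : ∀ a, BM (N a)
  out : ∀ a, OutCyc (N a)
  nreg : ¬ TwoTr.R.HasReg G X
  ev : ∀ a b, a ≠ b → ∃ d ∈ N a, d ≠ 1 ∧ d * d = 1 ∧ d • b = b
  hne : ∀ a b, a ≠ b → ∃ h ∈ N a, h ∈ N b ∧ h ≠ 1
  Mnormal : M.Normal
  Mmin : ∀ K : Subgroup G, K.Normal → K ≠ ⊥ → M ≤ K
  Mcent : 𝐂[M] = ⊥
  Msimple : IsSimpleGroup M
  Mnonab : ¬ IsMulCommutative M
  NM : ∀ a, N a ≤ M

/-- the conclusion of degree 6 -/
def C6 (G X : Type*) [Group G] (N : Subgroup G) : Prop :=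
  Nat.card X = 6 ∧
    (Nonempty (G ≃* alternatingGroup (Fin 6)) ∨ Nonempty (G ≃* Equiv.Perm (Fin 6))) ∧
    ∃ (F : Type) (_ : Field F) (_ : Fintype F), Fintype.card F = 4 ∧
      Nonempty (N ≃* Matrix.ProjectiveSpecialLinearGroup (Fin 2) F)

/-- the conclusion of degree 11 -/
def C11 (G X : Type*) [Group G] (N : Subgroup G) : Prop :=
  Nat.card X = 11 ∧
    (∃ (F : Type) (_ : Field F) (_ : Fintype F), Fintype.card F = 11 ∧
      Nonempty (G ≃* Matrix.ProjectiveSpecialLinearGroup (Fin 2) F)) ∧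
    ∃ (F : Type) (_ : Field F) (_ : Fintype F), Fintype.card F = 4 ∧
      Nonempty (N ≃* Matrix.ProjectiveSpecialLinearGroup (Fin 2) F)

variable {G X : Type*} [Group G] [MulAction G X]

variable (X) in
/-- fixed points of a subgroup -/
def fx (T : Subgroup G) : Set X := {a | ∀ x ∈ T, x • a = a}

theorem mem_fx {T : Subgroup G} {a : X} : a ∈ fx X T ↔ ∀ x ∈ T, x • a = a := Iff.rfl

theorem smul_mem_fx {T : Subgroup G} {a : X} (g : G) : g • a ∈ fx X cj(g, T) ↔ a ∈ fx X T :=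
  ⟨fun h x hx => smul_left_cancel g (by simpa [mul_smul] using h _ (conj_mem_cj g hx)),
    fun h x hx => by
      have := h _ (mem_cj.1 hx)
      rwa [mul_smul, mul_smul, inv_smul_eq_iff] at this⟩

namespace Ctx

variable (D : Ctx G X)

theorem cj_N (g : G) (a : X) : cj(g, D.N a) = D.N (g • a) := by
  ext x
  rw [mem_cj, ← D.conj_iff g]
  simp [mul_assoc]

theorem norm_N {g : G} {a : X} (h : g • a = a) : g ∈ 𝐍[D.N a] :=
  cj_eq_iff.1 (by rw [D.cj_N, h])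

theorem syl_cj {a : X} {T : Subgroup G} (h : IsSyl 2 T (D.N a)) (g : G) :
    IsSyl 2 cj(g, T) (D.N (g • a)) := D.cj_N g a ▸ h.cj g

/-- `N a ⊓ N b` has even order -/
def Ev : Prop := ∀ a b, a ≠ b → ∃ d ∈ D.N a, d ∈ D.N b ∧ d ≠ 1 ∧ d * d = 1

/-- a Sylow 2-subgroup of `N a` fixes only `a` -/
def Sm : Prop := ∀ a b T, IsSyl 2 T (D.N a) → b ∈ fx X T → b = a

/-- an involution of `N a` fixing `b` lies in `N b` -/
def FA : Prop := ∀ a b, ∀ d ∈ D.N a, d * d = 1 → d • b = b → d ∈ D.N b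

/-- a line: a Sylow 2-subgroup of some `N a` (its points are its fixed points) -/
def Ln (T : Subgroup G) : Prop := ∃ a, IsSyl 2 T (D.N a)

/-- parallel lines -/
def Par (T U : Subgroup G) : Prop := D.Ln T ∧ D.Ln U ∧ T ≠ U ∧ om U ≤ 𝐂[om T]

end Ctx

/-- Case 3: a Sylow 2-subgroup of `N a` fixes `b`. -/
structure C3 (G X : Type*) [Group G] [MulAction G X] extends Ctx G X where
  even : toCtx.Ev
  big : ∀ a b, a ≠ b → ∃ T, IsSyl 2 T (N a) ∧ b ∈ fx X T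

end Cfsg.Agent.Hir
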